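import Mathlib
import Groth.Prelude.Def_GrSeg
import Groth.Prelude.Def_GrLC

/-! The graded dual over a field: basic linear algebra and the transposition of orthogonals. -/

set_option autoImplicit false
set_option linter.unusedSectionVars false
universe u

open DirectSum

namespace GrDualLib

/-! ### Components -/

section Proj

variable {M : Type u} [AddCommGroup M] {τ : Type u} [SetLike τ M] [AddSubgroupClass τ M]
  (ℳ : ℤ → τ) [Decomposition ℳ]

/-- The component of degree `n`. -/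
def proj (n : ℤ) : M →+ M where
  toFun x := (decompose ℳ x n : M)
  map_zero' := by simp
  map_add' x y := by simp

theorem proj_mem (n : ℤ) (x : M) : proj ℳ n x ∈ ℳ n := SetLike.coe_mem _

theorem proj_of_mem {n : ℤ} {x : M} (hx : x ∈ ℳ n) : proj ℳ n x = x := decompose_of_mem_same ℳ hx

theorem proj_of_mem_ne {n m : ℤ} {x : M} (hx : x ∈ ℳ m) (h : m ≠ n) : proj ℳ n x = 0 :=
  decompose_of_mem_ne ℳ hx h

theorem proj_proj_ne {n m : ℤ} (h : m ≠ n) (x : M) : proj ℳ n (proj ℳ m x) = 0 :=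
  proj_of_mem_ne ℳ (proj_mem ℳ m x) h

theorem proj_proj (n : ℤ) (x : M) : proj ℳ n (proj ℳ n x) = proj ℳ n x :=
  proj_of_mem ℳ (proj_mem ℳ n x)

theorem eq_zero_of_proj {x : M} (h : ∀ n, proj ℳ n x = 0) : x = 0 := by
  apply (decompose ℳ).injective
  rw [decompose_zero]
  exact DFinsupp.ext fun g => Subtype.ext (h g)

theorem mem_of_proj_mem {σ : Type u} [SetLike σ M] [AddSubmonoidClass σ M] {P : σ} {x : M}
    (h : ∀ n, proj ℳ n x ∈ P) : x ∈ P := by
  classical
  rw [← sum_support_decompose ℳ x]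
  exact sum_mem fun n _ => h n

theorem exists_proj_ne {x : M} (hx : x ≠ 0) : ∃ n, proj ℳ n x ≠ 0 :=
  not_forall.1 fun h => hx (eq_zero_of_proj ℳ h)

theorem exists_proj_eq_zero (x : M) : ∃ N : ℕ, ∀ n : ℤ, (N : ℤ) < |n| → proj ℳ n x = 0 := by
  classical
  refine ⟨(DFinsupp.support (decompose ℳ x)).sup Int.natAbs, fun n hn => ?_⟩
  by_contra h
  have h2 : n ∈ DFinsupp.support (decompose ℳ x) := by
    rw [DFinsupp.mem_support_iff]
    intro e
    exact h (congrArg Subtype.val e)
  have := Finset.le_sup (f := Int.natAbs) h2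
  rw [Int.abs_eq_natAbs] at hn
  omega

/-- Homogeneous submodules, in projection form. -/
def Homog {R : Type u} [CommRing R] [Module R M] (P : Submodule R M) : Prop :=
  ∀ (n : ℤ), ∀ x ∈ P, proj ℳ n x ∈ P

theorem homog_of_isHomogeneous {R : Type u} [CommRing R] [Module R M] {P : Submodule R M}
    (h : P.IsHomogeneous ℳ) : Homog ℳ P := fun n _ hx => h n hx

theorem homog_sup {R : Type u} [CommRing R] [Module R M] {P Q : Submodule R M}
    (hP : Homog ℳ P) (hQ : Homog ℳ Q) : Homog ℳ (P ⊔ Q) := by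
  intro n x hx
  obtain ⟨p, hp, q, hq, rfl⟩ := Submodule.mem_sup.1 hx
  rw [map_add]
  exact Submodule.add_mem_sup (hP n p hp) (hQ n q hq)

theorem homog_le_iff {R : Type u} [CommRing R] [Module R M] {P Q : Submodule R M}
    (hP : Homog ℳ P) (h : ∀ n, ∀ x ∈ ℳ n, x ∈ P → x ∈ Q) : P ≤ Q := fun x hx =>
  mem_of_proj_mem ℳ fun n => h n _ (proj_mem ℳ n x) (hP n x hx)

end Proj

/-! ### Graded modules over a graded algebra -/

section Graded

variable {k R : Type u} [Field k] [CommRing R] [Algebra k R] (𝒜 : ℤ → Submodule k R)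
  [GradedAlgebra 𝒜]
  {M : Type u} [AddCommGroup M] [Module R M] [Module k M] [IsScalarTower k R M]
  {τ : Type u} [SetLike τ M] [AddSubgroupClass τ M] (ℳ : ℤ → τ)
  [Decomposition ℳ] [SetLike.GradedSMul 𝒜 ℳ]

theorem smul_mem {a n : ℤ} {r : R} {x : M} (hr : r ∈ 𝒜 a) (hx : x ∈ ℳ n) :
    r • x ∈ ℳ (a + n) := SetLike.GradedSMul.smul_mem (A := 𝒜) (B := ℳ) hr hx

/-- The piece of degree `n` as a `k`-subspace. -/
def pc (n : ℤ) : Submodule k M where
  carrier := ℳ n
  add_mem' := add_mem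
  zero_mem' := zero_mem _
  smul_mem' c x hx := by
    rw [← algebraMap_smul R c x]
    have h := smul_mem 𝒜 ℳ (SetLike.algebraMap_mem_graded 𝒜 c) hx
    rwa [zero_add] at h

theorem mem_pc {n : ℤ} {x : M} : x ∈ pc 𝒜 ℳ n ↔ x ∈ ℳ n := Iff.rfl

theorem proj_smul {a : ℤ} {r : R} (hr : r ∈ 𝒜 a) (n : ℤ) (x : M) :
    proj ℳ (a + n) (r • x) = r • proj ℳ n x := by
  induction x using Decomposition.inductionOn ℳ with
  | zero => simp
  | @homogeneous i m =>
    by_cases h : i = n
    · subst h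
      rw [proj_of_mem ℳ m.2, proj_of_mem ℳ (smul_mem 𝒜 ℳ hr m.2)]
    · rw [proj_of_mem_ne ℳ m.2 h, smul_zero,
        proj_of_mem_ne ℳ (smul_mem 𝒜 ℳ hr m.2) (by omega)]
  | add x y hx hy => rw [smul_add, map_add, map_add, hx, hy, smul_add]

theorem proj_smul' {a : ℤ} {r : R} (hr : r ∈ 𝒜 a) (n : ℤ) (x : M) :
    proj ℳ n (r • x) = r • proj ℳ (n - a) x := by
  rw [← proj_smul 𝒜 ℳ hr (n - a) x, add_sub_cancel]

/-- The component of degree `n` as a `k`-linear map. -/
def projₗ (n : ℤ) : M →ₗ[k] M where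
  toFun := proj ℳ n
  map_add' := map_add _
  map_smul' c x := by
    have h := proj_smul 𝒜 ℳ (SetLike.algebraMap_mem_graded 𝒜 c) n x
    rw [zero_add, algebraMap_smul, algebraMap_smul] at h
    exact h

@[simp] theorem projₗ_apply (n : ℤ) (x : M) : projₗ 𝒜 ℳ n x = proj ℳ n x := rfl

include 𝒜 in
/-- A submodule stable under components of scalar multiples by homogeneous elements. -/
theorem homog_span {S : Set M} (hS : ∀ s ∈ S, ∃ n, s ∈ ℳ n) :
    Homog ℳ (Submodule.span R S) := by
  intro n z hz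
  suffices key : ∀ (r : R) (n : ℤ), proj ℳ n (r • z) ∈ Submodule.span R S by
    simpa using key 1 n
  clear n
  induction hz using Submodule.span_induction with
  | mem s hs =>
    obtain ⟨m, hm⟩ := hS s hs
    intro r
    induction r using Decomposition.inductionOn 𝒜 with
    | zero => simp
    | @homogeneous i a =>
      intro n
      by_cases h : (i + m) = n
      · subst h
        rw [proj_of_mem ℳ (smul_mem 𝒜 ℳ a.2 hm)]
        exact Submodule.smul_mem _ _ (Submodule.subset_span hs)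
      · rw [proj_of_mem_ne ℳ (smul_mem 𝒜 ℳ a.2 hm) h]
        exact zero_mem _
    | add x y hx hy => intro n; rw [add_smul, map_add]; exact add_mem (hx n) (hy n)
  | zero => simp
  | add x y _ _ hx hy => intro r n; rw [smul_add, map_add]; exact add_mem (hx r n) (hy r n)
  | smul c x _ hx => intro r n; rw [smul_smul]; exact hx _ n

variable (h0R : 𝒜 0 = Submodule.span k {(1 : R)})

include h0R in
theorem deg0_smul {r : R} (hr : r ∈ 𝒜 0) : ∃ c : k, ∀ x : M, r • x = c • x := by
  rw [h0R, Submodule.mem_span_singleton] at hr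
  obtain ⟨c, rfl⟩ := hr
  exact ⟨c, fun x => by rw [smul_assoc, one_smul]⟩

include h0R in
/-- Submodules generated in one degree meet that degree in the generating subspace. -/
theorem proj_span_mem {n : ℤ} (P : Submodule k M) (hP : ∀ x ∈ P, x ∈ ℳ n) {z : M}
    (hz : z ∈ Submodule.span R (P : Set M)) : proj ℳ n z ∈ P := by
  suffices key : ∀ r : R, proj ℳ n (r • z) ∈ P by simpa using key 1
  induction hz using Submodule.span_induction with
  | mem s hs =>
    intro r
    induction r using Decomposition.inductionOn 𝒜 with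
    | zero => simp
    | @homogeneous i a =>
      by_cases h : i = 0
      · subst h
        obtain ⟨c, hc⟩ := deg0_smul 𝒜 (M := M) h0R a.2
        rw [hc, proj_of_mem ℳ]
        · exact P.smul_mem c hs
        · exact hP _ (P.smul_mem c hs)
      · rw [proj_of_mem_ne ℳ (smul_mem 𝒜 ℳ a.2 (hP s hs)) (by omega)]
        exact zero_mem _
    | add x y hx hy => rw [add_smul, map_add]; exact add_mem hx hy
  | zero => simp
  | add x y _ _ hx hy => intro r; rw [smul_add, map_add]; exact add_mem (hx r) (hy r)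
  | smul c x _ hx => intro r; rw [smul_smul]; exact hx _

include h0R in
theorem span_strictMono (n : ℤ) : StrictMono fun V : Submodule k (pc 𝒜 ℳ n) =>
    Submodule.span R ((V.map (pc 𝒜 ℳ n).subtype : Submodule k M) : Set M) := by
  refine Monotone.strictMono_of_injective (fun V W h => Submodule.span_mono ?_) ?_
  · exact Submodule.map_mono h
  · intro V W h
    apply Submodule.map_injective_of_injective (pc 𝒜 ℳ n).injective_subtype
    have key : ∀ V W : Submodule k (pc 𝒜 ℳ n),
        Submodule.span R ((V.map (pc 𝒜 ℳ n).subtype : Submodule k M) : Set M)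
          = Submodule.span R ((W.map (pc 𝒜 ℳ n).subtype : Submodule k M) : Set M) →
        V.map (pc 𝒜 ℳ n).subtype ≤ W.map (pc 𝒜 ℳ n).subtype := by
      intro V W h x hx
      have hpc : ∀ W : Submodule k (pc 𝒜 ℳ n), ∀ y ∈ W.map (pc 𝒜 ℳ n).subtype, y ∈ ℳ n := by
        rintro W _ ⟨y, -, rfl⟩
        exact y.2
      have h2 : x ∈ Submodule.span R ((W.map (pc 𝒜 ℳ n).subtype : Submodule k M) : Set M) :=
        h ▸ Submodule.subset_span hx
      have h3 := proj_span_mem 𝒜 ℳ h0R _ (hpc W) h2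
      rwa [proj_of_mem ℳ (hpc V x hx)] at h3
    exact le_antisymm (key V W h) (key W V h.symm)

include h0R in
theorem finite_pc_of_isNoetherian [IsNoetherian R M] (n : ℤ) :
    FiniteDimensional k (pc 𝒜 ℳ n) := by
  have : IsNoetherian k (pc 𝒜 ℳ n) :=
    isNoetherian_mk (span_strictMono 𝒜 ℳ h0R n).wellFoundedGT
  infer_instance

include h0R in
theorem finite_pc_of_isArtinian [IsArtinian R M] (n : ℤ) :
    FiniteDimensional k (pc 𝒜 ℳ n) := by
  have : IsArtinian k (pc 𝒜 ℳ n) := (span_strictMono 𝒜 ℳ h0R n).wellFoundedLT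
  exact ((IsSemisimpleModule.finite_tfae (R := k) (M := pc 𝒜 ℳ n)).out 0 2).2 this

section Bounded

variable (hpos : ∀ n : ℤ, n < 0 → 𝒜 n = ⊥)

include hpos in
/-- The elements of degree at least `n`. -/
def fil (n : ℤ) : Submodule R M where
  carrier := {x | ∀ i < n, proj ℳ i x = 0}
  add_mem' {x y} hx hy i hi := by rw [map_add, hx i hi, hy i hi, add_zero]
  zero_mem' i _ := map_zero _
  smul_mem' r x hx := by
    induction r using Decomposition.inductionOn 𝒜 with
    | zero => intro i _; rw [zero_smul, map_zero]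
    | @homogeneous a b =>
      intro i hi
      by_cases ha : a < 0
      · have : (b : R) = 0 := by simpa [hpos a ha] using b.2
        rw [this, zero_smul, map_zero]
      · rw [proj_smul' 𝒜 ℳ b.2, hx _ (by omega), smul_zero]
    | add p q hp hq => intro i hi; rw [add_smul, map_add, hp i hi, hq i hi, add_zero]

theorem mem_fil {n : ℤ} {x : M} : x ∈ fil 𝒜 ℳ hpos n ↔ ∀ i < n, proj ℳ i x = 0 := Iff.rfl

include 𝒜 hpos in
/-- A finitely generated graded module is bounded below. -/
theorem exists_bound [Module.Finite R M] : ∃ N : ℤ, ∀ n < N, ∀ x ∈ ℳ n, x = 0 := by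
  classical
  obtain ⟨s, hs⟩ := Module.Finite.fg_top (R := R) (M := M)
  choose N hN using fun x => exists_proj_eq_zero ℳ x
  refine ⟨-((s.sup N : ℕ) : ℤ), fun n hn x hx => ?_⟩
  have hle : (⊤ : Submodule R M) ≤ fil 𝒜 ℳ hpos (-((s.sup N : ℕ) : ℤ)) := by
    rw [← hs, Submodule.span_le]
    intro y hy i hi
    refine hN y i ?_
    have := Finset.le_sup (f := N) hy
    have h2 : -i ≤ |i| := neg_le_abs i
    omega
  have := hle (Submodule.mem_top (x := x)) n hn
  rwa [proj_of_mem ℳ hx] at this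

end Bounded

end Graded

/-! ### The dual pairing -/

section Dual

variable {k R : Type u} [Field k] [CommRing R] [Algebra k R]
  {M : Type u} [AddCommGroup M] [Module R M] [Module k M] [IsScalarTower k R M]
  {τ : Type u} [SetLike τ M] [AddSubgroupClass τ M] {ℳ : ℤ → τ} [Decomposition ℳ]
  {D : Type u} [AddCommGroup D] [Module R D] [Module k D] [IsScalarTower k R D]
  {τ' : Type u} [SetLike τ' D] [AddSubgroupClass τ' D] {𝒟 : ℤ → τ'} [Decomposition 𝒟]
  {β : D →ₗ[k] M →ₗ[k] k} (hD : GrSeg.IsGDual R ℳ 𝒟 β)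

include hD in
theorem pair_proj_left (d : D) {m : ℤ} {x : M} (hx : x ∈ ℳ m) :
    β d x = β (proj 𝒟 (-m) d) x := by
  induction d using Decomposition.inductionOn 𝒟 with
  | zero => simp
  | @homogeneous i e =>
    by_cases h : i = -m
    · subst h; rw [proj_of_mem 𝒟 e.2]
    · rw [proj_of_mem_ne 𝒟 e.2 h, hD.vanish i e e.2 m (by omega) x hx, map_zero,
        LinearMap.zero_apply]
  | add a b ha hb => simp only [map_add, LinearMap.add_apply, ha, hb]

include hD in
theorem pair_proj_right {n : ℤ} {d : D} (hd : d ∈ 𝒟 n) (x : M) :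
    β d x = β d (proj ℳ (-n) x) := by
  induction x using Decomposition.inductionOn ℳ with
  | zero => simp
  | @homogeneous i e =>
    by_cases h : i = -n
    · subst h; rw [proj_of_mem ℳ e.2]
    · rw [proj_of_mem_ne ℳ e.2 h, hD.vanish n d hd i h e e.2, map_zero]
  | add a b ha hb => simp only [map_add, ha, hb]

include hD in
theorem ext_zero {d : D} (h : ∀ x : M, β d x = 0) : d = 0 := by
  refine eq_zero_of_proj 𝒟 fun n => hD.eq_zero n _ (proj_mem 𝒟 n d) fun x hx => ?_
  have := pair_proj_left hD d hx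
  rw [neg_neg] at this
  rw [← this, h]

include hD in
theorem ext {d e : D} (h : ∀ x : M, β d x = β e x) : d = e :=
  sub_eq_zero.1 (ext_zero hD fun x => by rw [map_sub, LinearMap.sub_apply, h, sub_self])

include hD in
theorem mem_piece {n : ℤ} {d : D} (h : ∀ m, m ≠ -n → ∀ x ∈ ℳ m, β d x = 0) : d ∈ 𝒟 n := by
  have : proj 𝒟 n d = d := by
    refine ext hD fun x => ?_
    induction x using Decomposition.inductionOn ℳ with
    | zero => simp
    | @homogeneous i e =>
      by_cases hi : i = -n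
      · subst hi
        have := pair_proj_left hD d e.2
        rw [neg_neg] at this
        exact this.symm
      · rw [h i hi e e.2, hD.vanish n _ (proj_mem 𝒟 n d) i hi e e.2]
    | add a b ha hb => simp only [map_add, ha, hb]
  rw [← this]
  exact proj_mem 𝒟 n d

include hD in
/-- The universal property of the graded dual. -/
theorem liftDeg {X : Type u} [AddCommGroup X] [Module R X] [Module k X] [IsScalarTower k R X]
    {τX : Type u} [SetLike τX X] [AddSubgroupClass τX X] (𝒳 : ℤ → τX) [Decomposition 𝒳]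
    (Ψ : X →ₗ[k] M →ₗ[k] k) (hsmul : ∀ (r : R) (x : X) (y : M), Ψ (r • x) y = Ψ x (r • y))
    (s : ℤ) (hvan : ∀ (n : ℤ), ∀ x ∈ 𝒳 n, ∀ m : ℤ, m ≠ -(n + s) → ∀ y ∈ ℳ m, Ψ x y = 0) :
    ∃ h : X →ₗ[R] D, GrLC.IsGrHomDeg 𝒳 𝒟 h s ∧ ∀ x y, β (h x) y = Ψ x y := by
  have hex : ∀ x, ∃ d, ∀ y, β d y = Ψ x y := by
    intro x
    induction x using Decomposition.inductionOn 𝒳 with
    | zero => exact ⟨0, by simp⟩
    | @homogeneous i e =>
      obtain ⟨d, hd, hde⟩ := hD.exists_eq (i + s) (Ψ e)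
      refine ⟨d, fun y => ?_⟩
      induction y using Decomposition.inductionOn ℳ with
      | zero => simp
      | @homogeneous j f =>
        by_cases hj : j = -(i + s)
        · subst hj; exact hde f f.2
        · rw [hD.vanish (i + s) d hd j hj f f.2, hvan i e e.2 j hj f f.2]
      | add a b ha hb => simp only [map_add, ha, hb]
    | add a b ha hb =>
      obtain ⟨d, hd⟩ := ha
      obtain ⟨e, he⟩ := hb
      exact ⟨d + e, fun y => by simp only [map_add, LinearMap.add_apply, hd, he]⟩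
  choose f hf using hex
  refine ⟨{ toFun := f
            map_add' := fun a b => ext hD fun y => by simp only [map_add, LinearMap.add_apply, hf]
            map_smul' := fun r a => ext hD fun y => by
              simp only [RingHom.id_apply, hD.map_smul, hf, hsmul] }, ?_, hf⟩
  intro n x hx
  exact mem_piece hD fun m hm y hy => (hf x y).trans (hvan n x hx m hm y hy)

include hD in
theorem lift {X : Type u} [AddCommGroup X] [Module R X] [Module k X] [IsScalarTower k R X]
    {τX : Type u} [SetLike τX X] [AddSubgroupClass τX X] (𝒳 : ℤ → τX) [Decomposition 𝒳]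
    (Ψ : X →ₗ[k] M →ₗ[k] k) (hsmul : ∀ (r : R) (x : X) (y : M), Ψ (r • x) y = Ψ x (r • y))
    (hvan : ∀ (n : ℤ), ∀ x ∈ 𝒳 n, ∀ m : ℤ, m ≠ -n → ∀ y ∈ ℳ m, Ψ x y = 0) :
    ∃ h : X →ₗ[R] D, GrLC.IsGrHom 𝒳 𝒟 h ∧ ∀ x y, β (h x) y = Ψ x y := by
  obtain ⟨h, hh, he⟩ := liftDeg hD 𝒳 Ψ hsmul 0
    fun n x hx m hm y hy => hvan n x hx m (by simpa using hm) y hy
  exact ⟨h, fun n x hx => by simpa using hh n x hx, he⟩

include hD in
theorem flip_eq_zero {n : ℤ} {x : M} (hx : x ∈ ℳ n) (ψ : M →ₗ[k] k)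
    (h : ∀ d ∈ 𝒟 (-n), β d x = 0) : ψ x = 0 := by
  obtain ⟨d, hd, hde⟩ := hD.exists_eq (-n) ψ
  rw [← hde x (by rw [neg_neg]; exact hx)]
  exact h d hd

/-- The orthogonal of a submodule. -/
def perp (hβ : ∀ (r : R) (d : D) (x : M), β (r • d) x = β d (r • x)) (P : Submodule R D) :
    Submodule R M where
  carrier := {x | ∀ d ∈ P, β d x = 0}
  add_mem' {x y} hx hy d hd := by rw [map_add, hx d hd, hy d hd, add_zero]
  zero_mem' d _ := map_zero _
  smul_mem' r x hx d hd := by rw [← hβ]; exact hx _ (P.smul_mem r hd)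

theorem perp_anti {hβ : ∀ (r : R) (d : D) (x : M), β (r • d) x = β d (r • x)}
    {P Q : Submodule R D} (h : P ≤ Q) : perp hβ Q ≤ perp hβ P := fun _ hx d hd => hx d (h hd)

include hD in
theorem perp_homog {P : Submodule R D} (hP : Homog 𝒟 P) : Homog ℳ (perp hD.map_smul P) := by
  intro n x hx d hd
  rw [pair_proj_left hD d (proj_mem ℳ n x)]
  have h := pair_proj_right hD (proj_mem 𝒟 (-n) d) x
  rw [neg_neg] at h
  rw [← h]
  exact hx _ (hP _ d hd)

section Flip

variable (𝒜 : ℤ → Submodule k R) [GradedAlgebra 𝒜]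
  [SetLike.GradedSMul 𝒜 ℳ] [SetLike.GradedSMul 𝒜 𝒟]

include hD 𝒜 in
/-- The transposed pairing is a graded dual. -/
theorem flip_isGDual (hfin : ∀ n, FiniteDimensional k (pc 𝒜 ℳ n)) :
    GrSeg.IsGDual R 𝒟 ℳ β.flip where
  map_smul r x d := by
    simp only [LinearMap.flip_apply, hD.map_smul]
  vanish n x hx m hm d hd := hD.vanish m d hd n (by omega) x hx
  eq_zero n x hx h := by
    by_contra hne
    obtain ⟨ψ, hψ⟩ := Module.Projective.exists_dual_ne_zero k hne
    exact hψ (flip_eq_zero hD hx ψ fun d hd => h d hd)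
  exists_eq n g := by
    haveI := hfin n
    let e₀ : pc 𝒜 𝒟 (-n) →ₗ[k] Module.Dual k (pc 𝒜 ℳ n) :=
      ((pc 𝒜 ℳ n).subtype.dualMap.comp β).comp (pc 𝒜 𝒟 (-n)).subtype
    have hinj : Function.Injective e₀ := by
      rw [← LinearMap.ker_eq_bot, eq_bot_iff]
      intro d hd
      exact Submodule.coe_eq_zero.1 (hD.eq_zero (-n) d d.2 fun x hx =>
        LinearMap.congr_fun hd ⟨x, by rw [neg_neg] at hx; exact hx⟩)
    have hsurj : Function.Surjective e₀ := by
      intro φ
      obtain ⟨ψ, hψ⟩ := LinearMap.exists_extend φ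
      obtain ⟨d, hd, hde⟩ := hD.exists_eq (-n) ψ
      refine ⟨⟨d, hd⟩, LinearMap.ext fun x => ?_⟩
      exact (hde x (by rw [neg_neg]; exact x.2)).trans (LinearMap.congr_fun hψ x)
    let e := LinearEquiv.ofBijective e₀ ⟨hinj, hsurj⟩
    let x := (Module.evalEquiv k (pc 𝒜 ℳ n)).symm
      ((g ∘ₗ (pc 𝒜 𝒟 (-n)).subtype) ∘ₗ e.symm.toLinearMap)
    refine ⟨x, x.2, fun d hd => ?_⟩
    have h1 : e ⟨d, hd⟩ x = g (e.symm (e ⟨d, hd⟩) : D) :=
      Module.apply_evalEquiv_symm_apply k (pc 𝒜 ℳ n) (e ⟨d, hd⟩) _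
    rw [LinearEquiv.symm_apply_apply] at h1
    exact h1

include 𝒜 in
/-- Double orthogonals of homogeneous submodules. -/
theorem mem_of_perp (hF : GrSeg.IsGDual R 𝒟 ℳ β.flip) {P : Submodule R D} (hP : Homog 𝒟 P)
    {d : D} (h : ∀ y ∈ perp hD.map_smul P, β d y = 0) : d ∈ P := by
  classical
  refine mem_of_proj_mem 𝒟 fun n => ?_
  by_contra hn
  let W : Submodule k D := P.restrictScalars k ⊓ pc 𝒜 𝒟 n
  have hW : proj 𝒟 n d ∉ W := fun hmem => hn hmem.1
  obtain ⟨g, hg1, hg2⟩ := Submodule.exists_dual_map_eq_bot_of_notMem hW inferInstance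
  obtain ⟨y, hy, hye⟩ := hF.exists_eq (-n) g
  rw [neg_neg] at hye
  refine hg1 ?_
  rw [← hye _ (proj_mem 𝒟 n d)]
  show β (proj 𝒟 n d) y = 0
  have hperp : y ∈ perp hD.map_smul P := by
    intro p hp
    rw [pair_proj_left hD p hy, neg_neg]
    have : g (proj 𝒟 n p) = 0 := by
      have := Submodule.mem_map_of_mem (f := g) (show proj 𝒟 n p ∈ W from
        ⟨hP n p hp, proj_mem 𝒟 n p⟩)
      rw [hg2] at this
      exact this
    rw [← this, ← hye _ (proj_mem 𝒟 n p)]
    rfl
  have := h y hperp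
  rwa [pair_proj_left hD d hy, neg_neg] at this

include 𝒜 in
theorem le_of_perp_le (hF : GrSeg.IsGDual R 𝒟 ℳ β.flip) {P Q : Submodule R D}
    (hQ : Homog 𝒟 Q) (h : perp hD.map_smul Q ≤ perp hD.map_smul P) : P ≤ Q := fun d hd =>
  mem_of_perp hD 𝒜 hF hQ fun _ hy => h hy d hd

end Flip

end Dual

end GrDualLib
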