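import Groth.Agent.GrDualLib.Basic

/-! Artinian and Noetherian modules under the graded dual; graded Nakayama. -/

set_option autoImplicit false
set_option linter.unusedSectionVars false
universe u

open DirectSum

namespace GrDualLib

variable {k R : Type u} [Field k] [CommRing R] [Algebra k R] (𝒜 : ℤ → Submodule k R)
  [GradedAlgebra 𝒜] (hpos : ∀ n : ℤ, n < 0 → 𝒜 n = ⊥) (h0R : 𝒜 0 = Submodule.span k {(1 : R)})
  {M : Type u} [AddCommGroup M] [Module R M] [Module k M] [IsScalarTower k R M]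
  {τ : Type u} [SetLike τ M] [AddSubgroupClass τ M] (ℳ : ℤ → τ) [Decomposition ℳ]
  [SetLike.GradedSMul 𝒜 ℳ]
  {D : Type u} [AddCommGroup D] [Module R D] [Module k D] [IsScalarTower k R D]
  {τ' : Type u} [SetLike τ' D] [AddSubgroupClass τ' D] (𝒟 : ℤ → τ') [Decomposition 𝒟]
  [SetLike.GradedSMul 𝒜 𝒟]

/-- The submodule of initial forms. -/
def ini (P : Submodule R D) : Submodule R D where
  carrier := {x | ∀ n, ∃ p ∈ P, p ∈ fil 𝒜 𝒟 hpos n ∧ proj 𝒟 n p = proj 𝒟 n x}
  add_mem' {x y} hx hy n := by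
    obtain ⟨p, hp, hpf, hpe⟩ := hx n
    obtain ⟨q, hq, hqf, hqe⟩ := hy n
    exact ⟨p + q, add_mem hp hq, add_mem hpf hqf, by rw [map_add, map_add, hpe, hqe]⟩
  zero_mem' n := ⟨0, zero_mem _, zero_mem _, by simp⟩
  smul_mem' r x hx := by
    induction r using Decomposition.inductionOn 𝒜 with
    | zero => intro n; exact ⟨0, zero_mem _, zero_mem _, by simp⟩
    | @homogeneous a b =>
      intro n
      obtain ⟨p, hp, hpf, hpe⟩ := hx (n - a)
      refine ⟨(b : R) • p, P.smul_mem _ hp, ?_, ?_⟩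
      · intro i hi
        rw [proj_smul' 𝒜 𝒟 b.2, hpf _ (by omega), smul_zero]
      · rw [proj_smul' 𝒜 𝒟 b.2, hpe, proj_smul' 𝒜 𝒟 b.2]
    | add c d hc hd =>
      intro n
      obtain ⟨p, hp, hpf, hpe⟩ := hc n
      obtain ⟨q, hq, hqf, hqe⟩ := hd n
      exact ⟨p + q, add_mem hp hq, add_mem hpf hqf, by rw [map_add, add_smul, map_add, hpe, hqe]⟩

theorem ini_mono {P Q : Submodule R D} (h : P ≤ Q) : ini 𝒜 hpos 𝒟 P ≤ ini 𝒜 hpos 𝒟 Q :=
  fun _ hx n => (hx n).imp fun _ hp => ⟨h hp.1, hp.2⟩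

theorem ini_homog (P : Submodule R D) : Homog 𝒟 (ini 𝒜 hpos 𝒟 P) := by
  intro m x hx n
  by_cases h : m = n
  · subst h
    rw [proj_proj]
    exact hx m
  · rw [proj_proj_ne 𝒟 h]
    exact ⟨0, zero_mem _, zero_mem _, by simp⟩

theorem le_of_ini_le (N : ℤ) (hN : ∀ n > N, ∀ x ∈ 𝒟 n, x = 0) {P Q : Submodule R D}
    (hPQ : P ≤ Q) (h : ini 𝒜 hpos 𝒟 Q ≤ ini 𝒜 hpos 𝒟 P) : Q ≤ P := by
  have key : ∀ (j : ℕ) (n : ℤ), N + 1 - j ≤ n → ∀ x ∈ Q, x ∈ fil 𝒜 𝒟 hpos n → x ∈ P := by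
    intro j
    induction j with
    | zero =>
      intro n hn x _ hxf
      have : x = 0 := eq_zero_of_proj 𝒟 fun i => by
        by_cases hi : i < n
        · exact hxf i hi
        · exact hN i (by omega) _ (proj_mem 𝒟 i x)
      rw [this]
      exact zero_mem _
    | succ j ih =>
      intro n hn x hx hxf
      have hmem : proj 𝒟 n x ∈ ini 𝒜 hpos 𝒟 Q := by
        intro m
        by_cases hm : n = m
        · subst hm; exact ⟨x, hx, hxf, (proj_proj 𝒟 n x).symm⟩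
        · exact ⟨0, zero_mem _, zero_mem _, by rw [map_zero, proj_proj_ne 𝒟 hm]⟩
      obtain ⟨p, hp, hpf, hpe⟩ := h hmem n
      rw [proj_proj] at hpe
      have h2 : x - p ∈ P := by
        refine ih (n + 1) (by push_cast at hn; omega) _ (sub_mem hx (hPQ hp)) fun i hi => ?_
        by_cases hin : i < n
        · rw [map_sub, hxf i hin, hpf i hin, sub_zero]
        · obtain rfl : i = n := by omega
          rw [map_sub, hpe, sub_self]
      simpa using add_mem h2 hp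
  intro x hx
  obtain ⟨L, hL⟩ := exists_proj_eq_zero 𝒟 x
  refine key (N + 1 + L).toNat (-(L : ℤ)) (by omega) x hx fun i hi => hL i ?_
  have h2 : -i ≤ |i| := neg_le_abs i
  omega

variable {ℳ} {𝒟} {β : D →ₗ[k] M →ₗ[k] k}

include h0R in
theorem flip_of_isNoetherian (hD : GrSeg.IsGDual R ℳ 𝒟 β) [IsNoetherian R M] :
    GrSeg.IsGDual R 𝒟 ℳ β.flip :=
  flip_isGDual hD 𝒜 (finite_pc_of_isNoetherian 𝒜 ℳ h0R)

include h0R in
theorem flip_of_isArtinian (hD : GrSeg.IsGDual R ℳ 𝒟 β) [IsArtinian R M] :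
    GrSeg.IsGDual R 𝒟 ℳ β.flip :=
  flip_isGDual hD 𝒜 (finite_pc_of_isArtinian 𝒜 ℳ h0R)

include hpos h0R in
/-- The dual of a finitely generated module is Artinian. -/
theorem isArtinian_dual (hD : GrSeg.IsGDual R ℳ 𝒟 β) [IsNoetherianRing R] [Module.Finite R M] :
    IsArtinian R D := by
  haveI : IsNoetherian R M := isNoetherian_of_isNoetherianRing_of_finite R M
  have hF := flip_of_isNoetherian 𝒜 h0R hD
  obtain ⟨B, hB⟩ := exists_bound 𝒜 ℳ hpos
  have hN : ∀ n > -B, ∀ d ∈ 𝒟 n, d = 0 := by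
    intro n hn d hd
    exact hD.eq_zero n d hd fun x hx => by rw [hB (-n) (by omega) x hx, map_zero]
  let Φ : Submodule R D → (Submodule R M)ᵒᵈ := fun P =>
    OrderDual.toDual (perp hD.map_smul (ini 𝒜 hpos 𝒟 P))
  have hΦ : StrictMono Φ := by
    intro P Q hPQ
    show perp hD.map_smul (ini 𝒜 hpos 𝒟 Q) < perp hD.map_smul (ini 𝒜 hpos 𝒟 P)
    refine lt_of_le_not_ge (perp_anti (ini_mono 𝒜 hpos 𝒟 hPQ.le)) fun hge => hPQ.not_ge ?_
    exact le_of_ini_le 𝒜 hpos 𝒟 (-B) hN hPQ.le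
      (le_of_perp_le hD 𝒜 hF (ini_homog 𝒜 hpos 𝒟 P) hge)
  exact hΦ.wellFoundedLT

include h0R in
/-- The dual of an Artinian module is finitely generated. -/
theorem finite_dual (hD : GrSeg.IsGDual R ℳ 𝒟 β) [IsArtinian R M] : Module.Finite R D := by
  classical
  have hF := flip_of_isArtinian 𝒜 h0R hD
  let S : Set (Submodule R M) := {Q | ∃ s : Finset D, (∀ d ∈ s, ∃ n, d ∈ 𝒟 n) ∧
    Q = perp hD.map_smul (Submodule.span R (s : Set D))}
  obtain ⟨_, ⟨s, hs, rfl⟩, hmin⟩ := IsArtinian.set_has_minimal S ⟨_, ∅, by simp, rfl⟩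
  refine ⟨⟨s, top_le_iff.1 fun d _ => mem_of_proj_mem 𝒟 fun n => ?_⟩⟩
  have hle : perp hD.map_smul (Submodule.span R (↑(insert (proj 𝒟 n d) s) : Set D)) ≤
      perp hD.map_smul (Submodule.span R (s : Set D)) :=
    perp_anti (Submodule.span_mono (by simp))
  have hnlt := hmin _ ⟨insert (proj 𝒟 n d) s, fun e he => by
    rcases Finset.mem_insert.1 he with rfl | he
    · exact ⟨n, proj_mem 𝒟 n d⟩
    · exact hs e he, rfl⟩
  have heq := eq_of_le_of_not_lt hle hnlt
  refine mem_of_perp hD 𝒜 hF (homog_span 𝒜 𝒟 hs) fun y hy => ?_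
  rw [← heq] at hy
  exact hy _ (Submodule.subset_span (by simp))

section Nakayama

variable (ℳ) (mR : Ideal R) (hmR : mR = Ideal.span (⋃ n ∈ Set.Ioi (0 : ℤ), (𝒜 n : Set R)))

include hmR in
theorem homog_mR_smul : Homog ℳ (mR • (⊤ : Submodule R M)) := by
  let S : Ideal R :=
    { carrier := {r | ∀ (y : M) (n : ℤ), proj ℳ n (r • y) ∈ mR • (⊤ : Submodule R M)}
      add_mem' := fun hx hy y n => by rw [add_smul, map_add]; exact add_mem (hx y n) (hy y n)
      zero_mem' := fun y n => by rw [zero_smul, map_zero]; exact zero_mem _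
      smul_mem' := fun c x hx y n => by rw [smul_eq_mul, mul_comm, mul_smul]; exact hx _ n }
  have hle : mR ≤ S := by
    conv_lhs => rw [hmR]
    rw [Ideal.span_le]
    intro r hr y n
    obtain ⟨a, ha, hra⟩ := Set.mem_iUnion₂.1 hr
    rw [proj_smul' 𝒜 ℳ hra]
    refine Submodule.smul_mem_smul ?_ trivial
    rw [hmR]
    exact Ideal.subset_span hr
  intro n z hz
  refine Submodule.smul_induction_on hz (fun r hr y _ => hle hr y n) fun x y hx hy => ?_
  rw [map_add]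
  exact add_mem hx hy

include hmR in
theorem mR_proj_mem (Q : Submodule R M) (n : ℤ) (hQ : ∀ i < n, ∀ x ∈ ℳ i, x ∈ Q) {z : M}
    (hz : z ∈ mR • (⊤ : Submodule R M)) : proj ℳ n z ∈ Q := by
  let S : Ideal R :=
    { carrier := {r | ∀ y : M, proj ℳ n (r • y) ∈ Q}
      add_mem' := fun hx hy y => by rw [add_smul, map_add]; exact add_mem (hx y) (hy y)
      zero_mem' := fun y => by rw [zero_smul, map_zero]; exact zero_mem _
      smul_mem' := fun c x hx y => by rw [smul_eq_mul, mul_comm, mul_smul]; exact hx _ }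
  have hle : mR ≤ S := by
    rw [hmR, Ideal.span_le]
    intro r hr y
    obtain ⟨a, ha, hra⟩ := Set.mem_iUnion₂.1 hr
    rw [proj_smul' 𝒜 ℳ hra]
    have ha' : 0 < a := ha
    exact Q.smul_mem _ (hQ _ (by omega) _ (proj_mem ℳ _ y))
  refine Submodule.smul_induction_on hz (fun r hr y _ => hle hr y) fun x y hx hy => ?_
  rw [map_add]
  exact add_mem hx hy

include hpos hmR in
/-- Graded Nakayama. -/
theorem eq_top_of_sup [Module.Finite R M] {Q : Submodule R M} (hQh : Homog ℳ Q)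
    (h : Q ⊔ mR • (⊤ : Submodule R M) = ⊤) : Q = ⊤ := by
  obtain ⟨B, hB⟩ := exists_bound 𝒜 ℳ hpos
  have key : ∀ (j : ℕ) (i : ℤ), i < B + j → ∀ x ∈ ℳ i, x ∈ Q := by
    intro j
    induction j with
    | zero =>
      intro i hi x hx
      rw [hB i (by simpa using hi) x hx]
      exact zero_mem _
    | succ j ih =>
      intro i hi x hx
      obtain ⟨q, hq, z, hz, hsum⟩ := Submodule.mem_sup.1 (h ▸ Submodule.mem_top (x := x))
      have hz2 := mR_proj_mem 𝒜 ℳ mR hmR Q i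
        (fun i' hi' => ih i' (by push_cast at hi; omega)) hz
      have := congrArg (proj ℳ i) hsum
      rw [map_add, proj_of_mem ℳ hx] at this
      rw [← this]
      exact add_mem (hQh i q hq) hz2
  refine top_le_iff.1 fun x _ => mem_of_proj_mem ℳ fun i => ?_
  exact key (i - B + 1).toNat i (by omega) _ (proj_mem ℳ i x)

end Nakayama

end GrDualLib
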