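import Groth.Agent.GrDualLib.Main
import Groth.Agent.GrInjLib.QuasiRegular
import Groth.Agent.LocCohLib.Vanishing

/-! The natural map `M → Hom(H^n(R), H^n(M))` on top graded local cohomology. -/

set_option autoImplicit false
set_option linter.unusedSectionVars false
universe u

open DirectSum GrInjLib

namespace GrDualLib

variable {ι : Type} [AddCommGroup ι] [DecidableEq ι] {R : Type u} [CommRing R]
  {σ : Type u} [SetLike σ R] [AddSubgroupClass σ R] {𝒜 : ι → σ} [GradedRing 𝒜]

section Sum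

variable {M : Type u} [AddCommGroup M] [Module R M] {ℳ : ι → AddSubgroup M}
  [Decomposition ℳ] [SetLike.GradedSMul 𝒜 ℳ]
  {N : Type u} [AddCommGroup N] [Module R N] {𝒩 : ι → AddSubgroup N}
  [Decomposition 𝒩] [SetLike.GradedSMul 𝒜 𝒩]
  {E : GrLC.StarInjRes 𝒜 ℳ} {E' : GrLC.StarInjRes 𝒜 𝒩}

/-- The sum of two lifts. -/
def liftAdd {φ φ' : M →ₗ[R] N} {δ : ι} (L : Lift E E' φ δ) (L' : Lift E E' φ' δ) :
    Lift E E' (φ + φ') δ where
  ψ n := L.ψ n + L'.ψ n
  deg n g x hx := add_mem (L.deg n g x hx) (L'.deg n g x hx)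
  comm0 := by rw [LinearMap.add_comp, L.comm0, L'.comm0, LinearMap.comp_add]
  comm n := by rw [LinearMap.add_comp, L.comm, L'.comm, LinearMap.comp_add]

theorem mapH_liftAdd (a : HomogeneousIdeal 𝒜) {φ φ' : M →ₗ[R] N} {δ : ι} (L : Lift E E' φ δ)
    (L' : Lift E E' φ' δ) (i : ℕ) :
    (liftAdd L L').mapH a i = L.mapH a i + L'.mapH a i := by
  refine LinearMap.ext fun x => ?_
  obtain ⟨z, rfl⟩ := Submodule.mkQ_surjective _ x
  show E'.toH a i _ = E'.toH a i (L.mapZ a i z) + E'.toH a i (L'.mapZ a i z)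
  rw [← map_add]
  exact congrArg (E'.toH a i) (Subtype.ext rfl)

/-- The finite sum of lifts. -/
def liftSum {κ : Type u} [Fintype κ] {φ : κ → (M →ₗ[R] N)} {δ : ι}
    (L : ∀ j, Lift E E' (φ j) δ) : Lift E E' (∑ j, φ j) δ where
  ψ n := ∑ j, (L j).ψ n
  deg n g x hx := by
    rw [LinearMap.sum_apply]
    exact sum_mem fun j _ => (L j).deg n g x hx
  comm0 := LinearMap.ext fun x => by
    simp only [LinearMap.comp_apply, LinearMap.sum_apply, map_sum]
    exact Finset.sum_congr rfl fun j _ => LinearMap.congr_fun (L j).comm0 x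
  comm n := LinearMap.ext fun x => by
    simp only [LinearMap.comp_apply, LinearMap.sum_apply, map_sum]
    exact Finset.sum_congr rfl fun j _ => LinearMap.congr_fun ((L j).comm n) x

theorem mapH_liftSum (a : HomogeneousIdeal 𝒜) {κ : Type u} [Fintype κ] {φ : κ → (M →ₗ[R] N)}
    {δ : ι} (L : ∀ j, Lift E E' (φ j) δ) (i : ℕ) :
    (liftSum L).mapH a i = ∑ j, (L j).mapH a i := by
  refine LinearMap.ext fun x => ?_
  obtain ⟨z, rfl⟩ := Submodule.mkQ_surjective _ x
  rw [LinearMap.sum_apply]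
  refine (congrArg (E'.toH a i) (Subtype.ext ?_)).trans
    (map_sum (E'.toH a i) (fun j => (L j).mapZ a i z) Finset.univ)
  rw [Submodule.coe_sum]
  exact LinearMap.sum_apply Finset.univ (fun j => (L j).ψ i) _

/-- A scalar multiple of a lift, by a homogeneous scalar. -/
def liftSMul {φ : M →ₗ[R] N} {δ b : ι} {r : R} (hr : r ∈ 𝒜 b) (L : Lift E E' φ δ) :
    Lift E E' (r • φ) (b + δ) where
  ψ n := r • L.ψ n
  deg n g x hx := by
    rw [LinearMap.smul_apply, show g + (b + δ) = b + (g + δ) by abel]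
    exact GrInjLib.smul_mem 𝒜 (E'.X n).gr hr (L.deg n g x hx)
  comm0 := by rw [LinearMap.smul_comp, L.comm0, LinearMap.comp_smul]
  comm n := by rw [LinearMap.smul_comp, L.comm, LinearMap.comp_smul]

theorem mapH_liftSMul (a : HomogeneousIdeal 𝒜) {φ : M →ₗ[R] N} {δ b : ι} {r : R} (hr : r ∈ 𝒜 b)
    (L : Lift E E' φ δ) (i : ℕ) : (liftSMul hr L).mapH a i = r • L.mapH a i := by
  refine LinearMap.ext fun x => ?_
  obtain ⟨z, rfl⟩ := Submodule.mkQ_surjective _ x
  show E'.toH a i _ = r • E'.toH a i (L.mapZ a i z)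
  rw [← map_smul]
  exact congrArg (E'.toH a i) (Subtype.ext rfl)

end Sum

section Theta

variable {𝒲 : ι → AddSubgroup R} [Decomposition 𝒲] [SetLike.GradedSMul 𝒜 𝒲]
  (hW : ∀ g r, r ∈ 𝒲 g ↔ r ∈ 𝒜 g) (IR : GrLC.StarInjRes 𝒜 𝒲)
  {M : Type u} [AddCommGroup M] [Module R M] {ℳ : ι → AddSubgroup M}
  [Decomposition ℳ] [SetLike.GradedSMul 𝒜 ℳ] (EM : GrLC.StarInjRes 𝒜 ℳ)
  {N : Type u} [AddCommGroup N] [Module R N] {𝒩 : ι → AddSubgroup N}
  [Decomposition 𝒩] [SetLike.GradedSMul 𝒜 𝒩] (EN : GrLC.StarInjRes 𝒜 𝒩)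
  (a : HomogeneousIdeal 𝒜) (i : ℕ)

include hW in
theorem span_deg {g : ι} {x : M} (hx : x ∈ ℳ g) :
    GrLC.IsGrHomDeg 𝒲 ℳ (LinearMap.toSpanSingleton R M x) g := fun b r hr => by
  rw [LinearMap.toSpanSingleton_apply]
  exact GrInjLib.smul_mem 𝒜 ℳ ((hW b r).1 hr) hx

/-- The action of a homogeneous element on cohomology. -/
noncomputable def thetaH (g : ι) : ℳ g →+ (IR.H a i →ₗ[R] EM.H a i) :=
  AddMonoidHom.mk' (fun x => (exists_lift IR EM (span_deg hW x.2)).some.mapH a i) fun x y => by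
    rw [← mapH_liftAdd]
    have hφ : LinearMap.toSpanSingleton R M ((x + y : ℳ g) : M) =
        LinearMap.toSpanSingleton R M (x : M) + LinearMap.toSpanSingleton R M (y : M) := by
      rw [AddMemClass.coe_add, LinearMap.toSpanSingleton_add]
    generalize (exists_lift IR EM (span_deg hW (x + y).2)).some = L
    revert L
    rw [hφ]
    exact fun L => Lift.mapH_eq a L _ i

/-- The action of elements of `M` on cohomology. -/
noncomputable def theta : M →+ (IR.H a i →ₗ[R] EM.H a i) :=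
  (DirectSum.toAddMonoid fun g => thetaH hW IR EM a i g).comp
    (decomposeAddEquiv ℳ).toAddMonoidHom

theorem theta_eq {g : ι} {x : M} (hx : x ∈ ℳ g)
    (L : Lift IR EM (LinearMap.toSpanSingleton R M x) g) :
    theta hW IR EM a i x = L.mapH a i := by
  have : theta hW IR EM a i x = thetaH hW IR EM a i g ⟨x, hx⟩ := by
    show DirectSum.toAddMonoid _ (decompose ℳ x) = _
    rw [decompose_of_mem ℳ hx, DirectSum.toAddMonoid_of]
  rw [this]
  exact Lift.mapH_eq a _ L i

theorem theta_eq' {g δ : ι} {x : M} (hx : x ∈ ℳ g) {φ : R →ₗ[R] M}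
    (hφ : φ = LinearMap.toSpanSingleton R M x) (hδ : δ = g) (L : Lift IR EM φ δ) :
    theta hW IR EM a i x = L.mapH a i := by
  subst hφ hδ
  exact theta_eq hW IR EM a i hx L

theorem theta_deg {g : ι} {x : M} (hx : x ∈ ℳ g) :
    GrLC.IsGrHomDeg (IR.Hgr a i) (EM.Hgr a i) (theta hW IR EM a i x) g := by
  obtain ⟨L⟩ := exists_lift IR EM (span_deg hW hx)
  rw [theta_eq hW IR EM a i hx L]
  exact L.mapH_grHomDeg a i

theorem theta_smul (r : R) (x : M) :
    theta hW IR EM a i (r • x) = r • theta hW IR EM a i x := by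
  induction x using Decomposition.inductionOn ℳ with
  | zero => simp
  | @homogeneous g x =>
    induction r using smul_induction 𝒜 with
    | h0 => simp
    | hadd r s hr hs => rw [add_smul, map_add, hr, hs, add_smul]
    | hhom b r hr =>
      obtain ⟨L⟩ := exists_lift IR EM (span_deg hW x.2)
      have hφ : r • LinearMap.toSpanSingleton R M (x : M) =
          LinearMap.toSpanSingleton R M (r • (x : M)) := LinearMap.ext fun c => by
        simp [smul_smul, mul_comm]
      rw [theta_eq hW IR EM a i x.2 L, ← mapH_liftSMul a hr L i]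
      exact theta_eq' hW IR EM a i (GrInjLib.smul_mem 𝒜 ℳ hr x.2) hφ rfl _
  | add x y hx hy => rw [smul_add, map_add, map_add, hx, hy, smul_add]

theorem theta_comp {φ : M →ₗ[R] N} {δ : ι} (hφ : GrLC.IsGrHomDeg ℳ 𝒩 φ δ)
    (L : Lift EM EN φ δ) (x : M) :
    theta hW IR EN a i (φ x) = L.mapH a i ∘ₗ theta hW IR EM a i x := by
  induction x using Decomposition.inductionOn ℳ with
  | zero => simp
  | @homogeneous g x =>
    obtain ⟨Lx⟩ := exists_lift IR EM (span_deg hW x.2)
    have hcomp : φ ∘ₗ LinearMap.toSpanSingleton R M (x : M) =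
        LinearMap.toSpanSingleton R N (φ x) := LinearMap.ext fun c => by simp
    have h2 : theta hW IR EN a i (φ x) = (L.comp Lx (γ := g + δ) rfl).mapH a i :=
      theta_eq' hW IR EN a i (hφ g x x.2) hcomp rfl _
    rw [h2, theta_eq hW IR EM a i x.2 Lx]
    exact LinearMap.ext fun y => Lift.mapH_comp a L Lx rfl i y
  | add x y hx hy => rw [map_add, map_add, map_add, hx, hy, LinearMap.comp_add]

theorem theta_ring (r : R) :
    theta hW IR IR a i r = r • LinearMap.id := by
  induction r using Decomposition.inductionOn 𝒲 with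
  | zero => simp
  | @homogeneous g r =>
    have hφ : ((r : R) • LinearMap.id : R →ₗ[R] R) = LinearMap.toSpanSingleton R R (r : R) :=
      LinearMap.ext fun c => by simp [mul_comm]
    have hr : (r : R) ∈ 𝒜 g := (hW g r).1 r.2
    have h2 : theta hW IR IR a i (r : R) = (liftSMul hr (Lift.refl IR)).mapH a i :=
      theta_eq' hW IR IR a i r.2 hφ (add_zero g) _
    rw [h2, mapH_liftSMul]
    exact LinearMap.ext fun y => by simp [Lift.mapH_refl]
  | add x y hx hy => rw [map_add, hx, hy, add_smul]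

section Noetherian

variable [IsNoetherianRing R] {n : ℕ} (hn : ringKrullDim R ≤ n)

include hn in
theorem subsingleton_H_succ : Subsingleton (EM.H a (n + 1)) := by
  obtain ⟨e⟩ := exists_H_equiv_locCoh EM a (n + 1)
  haveI : Subsingleton ((localCohomology a.toIdeal (n + 1)).obj (ModuleCat.of R M) : Type u) :=
    Groth.Agent.LocCohLib.cdLE_of_ringKrullDim a.toIdeal n hn M (n + 1) (Nat.lt_succ_self n)
  exact e.toEquiv.subsingleton

include hW in
theorem proj_deg {κ : Type u} [Fintype κ] (d : κ → ι) (j : κ) :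
    GrLC.IsGrHomDeg (freePieces 𝒜 d) 𝒲 (LinearMap.proj (R := R) (φ := fun _ : κ => R) j) (-d j) := fun g v hv =>
  (hW _ _).2 (by rw [← sub_eq_add_neg]; exact hv j)

theorem single_mem {κ : Type u} [Fintype κ] [DecidableEq κ] (d : κ → ι) (j : κ) :
    (Pi.single j 1 : κ → R) ∈ freePieces 𝒜 d (d j) := fun l => by
  by_cases hl : l = j
  · subst hl
    rw [Pi.single_eq_same, sub_self]
    exact SetLike.one_mem_graded 𝒜
  · rw [Pi.single_eq_of_ne hl]
    exact zero_mem _

include hW hn in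
/-- A presentation of the top cohomology by a free cover. -/
theorem exists_present [Module.Finite R M] :
    ∃ (κ : Type u) (_ : Fintype κ) (d : κ → ι) (x : κ → M), (∀ j, x j ∈ ℳ (d j)) ∧
      (∀ v, ∃ c : κ → R, ∑ j, c j • x j = v) ∧
      (∀ y : EM.H a n, ∃ h : κ → IR.H a n,
        ∑ j, theta hW IR EM a n (x j) (h j) = y) ∧
      ∃ (K : GrLC.GMod.{u} 𝒜) (_ : Module.Finite R K.carrier) (EK : GrLC.StarInjRes 𝒜 K.gr)
        (Z : K.carrier →ₗ[R] (κ → R)) (P : EK.H a n →ₗ[R] (κ → IR.H a n)),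
        (∀ z, ∑ j, Z z j • x j = 0) ∧
        (∀ z h j, P (theta hW IR EK a n z h) j = Z z j • h) ∧
        (∀ h : κ → IR.H a n, ∑ j, theta hW IR EM a n (x j) (h j) = 0 → ∃ v, P v = h) := by
  classical
  obtain ⟨κ, hκ, d, π, hπg, hπs⟩ := exists_free_cover 𝒜 ℳ
  letI : Decomposition (freePieces 𝒜 d) := (free_isInternal 𝒜 d).chooseDecomposition
  obtain ⟨EF⟩ := exists_starInjRes 𝒜 (freePieces 𝒜 d)
  have hπ0 := (isGrHom_iff (freePieces 𝒜 d) ℳ).1 hπg
  obtain ⟨Lπ⟩ := exists_lift EF EM hπ0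
  let x : κ → M := fun j => π (Pi.single j 1)
  let Lp : ∀ j, Lift EF IR (LinearMap.proj j) (-d j) := fun j =>
    (exists_lift EF IR (proj_deg hW d j)).some
  have hπx : ∀ v : κ → R, ∑ j, v j • x j = π v := fun v => by
    conv_rhs => rw [pi_eq_sum_univ v, map_sum]
    refine Finset.sum_congr rfl fun j _ => ?_
    rw [map_smul]
    refine congrArg (v j • ·) (congrArg π ?_)
    funext l
    simp [Pi.single_apply, eq_comm]
  have hπθ : ∀ v, theta hW IR EM a n (π v) = Lπ.mapH a n ∘ₗ theta hW IR EF a n v :=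
    theta_comp hW IR EF EM a n hπ0 Lπ
  have hpθ : ∀ v j h, (Lp j).mapH a n (theta hW IR EF a n v h) = v j • h := fun v j h => by
    have := theta_comp hW IR EF IR a n (proj_deg hW d j) (Lp j) v
    rw [theta_ring] at this
    simpa using (LinearMap.congr_fun this h).symm
  have hid : ∀ u : EF.H a n, ∑ j, theta hW IR EF a n (Pi.single j 1) ((Lp j).mapH a n u) = u := by
    intro u
    let Le : ∀ j, Lift IR EF (LinearMap.toSpanSingleton R (κ → R) (Pi.single j 1)) (d j) :=
      fun j => (exists_lift IR EF (span_deg hW (single_mem d j))).some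
    let L := liftSum fun j => (Le j).comp (Lp j) (neg_add_cancel (d j))
    have hsum : (∑ j, LinearMap.toSpanSingleton R (κ → R) (Pi.single j 1) ∘ₗ LinearMap.proj j) =
        (LinearMap.id : (κ → R) →ₗ[R] κ → R) := LinearMap.ext fun v => funext fun l => by
      simp [Pi.single_apply]
    have h2 : L.mapH a n = LinearMap.id := by
      generalize L = L'
      revert L'
      rw [hsum]
      intro L'
      exact (Lift.mapH_eq a L' (Lift.refl EF) n).trans (LinearMap.ext (Lift.mapH_refl a n))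
    have h3 := LinearMap.congr_fun h2 u
    rw [mapH_liftSum, LinearMap.sum_apply] at h3
    refine (Finset.sum_congr rfl fun j _ => ?_).trans h3
    rw [theta_eq hW IR EF a n (single_mem d j) (Le j), Lift.mapH_comp]
  have hcover : ∀ u : EF.H a n, Lπ.mapH a n u =
      ∑ j, theta hW IR EM a n (x j) ((Lp j).mapH a n u) := fun u => by
    conv_lhs => rw [← hid u, map_sum]
    exact Finset.sum_congr rfl fun j _ => by rw [hπθ]; rfl
  have hK : (LinearMap.ker π).IsHomogeneous (freePieces 𝒜 d) :=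
    ker_homogeneous (freePieces 𝒜 d) ℳ hπ0
  let K := subG 𝒜 (freePieces 𝒜 d) hK
  obtain ⟨EK⟩ := exists_starInjRes 𝒜 K.gr
  let incl := subIncl 𝒜 (freePieces 𝒜 d) hK
  have hincl := (isGrHom_iff K.gr (freePieces 𝒜 d)).1 (subIncl_grHom 𝒜 (freePieces 𝒜 d) hK)
  obtain ⟨Li⟩ := exists_lift EK EF hincl
  obtain ⟨-, δ, -, hB, hC, -⟩ := exists_long_exact Li Lπ a hincl hπg
    (subIncl_injective 𝒜 (freePieces 𝒜 d) hK)
    (fun b => by rw [← LinearMap.mem_ker, ← LinearMap.mem_range, range_subIncl]) hπs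
  have hsurj : ∀ y : EM.H a n, ∃ u, Lπ.mapH a n u = y := fun y => by
    haveI := subsingleton_H_succ EK a hn
    exact (hC n).le (LinearMap.mem_ker.2 (Subsingleton.elim (δ n y) 0))
  refine ⟨κ, hκ, d, x, fun j => hπg _ _ (single_mem d j), fun v => ?_, fun y => ?_, K, ?_, EK, incl,
    LinearMap.pi fun j => (Lp j).mapH a n ∘ₗ Li.mapH a n, fun z => ?_, fun z h j => ?_, fun h hh => ?_⟩
  · obtain ⟨c, rfl⟩ := hπs v
    exact ⟨c, hπx c⟩
  · obtain ⟨u, rfl⟩ := hsurj y
    exact ⟨fun j => (Lp j).mapH a n u, (hcover u).symm⟩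
  · haveI : IsNoetherian R (κ → R) := inferInstance
    exact (inferInstance : Module.Finite R (LinearMap.ker π))
  · rw [hπx]
    exact LinearMap.mem_ker.1 (subIncl_mem 𝒜 (freePieces 𝒜 d) hK z)
  · show (Lp j).mapH a n (Li.mapH a n (theta hW IR EK a n z h)) = _
    rw [← hpθ (incl z) j h, theta_comp hW IR EK EF a n hincl Li z]
    rfl
  · let u := ∑ j, theta hW IR EF a n (Pi.single j 1) (h j)
    have hu : Lπ.mapH a n u = 0 := by
      rw [← hh, map_sum]
      exact Finset.sum_congr rfl fun j _ => by rw [hπθ]; rfl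
    obtain ⟨v, hv⟩ := (hB n).le (LinearMap.mem_ker.2 hu)
    refine ⟨v, funext fun l => ?_⟩
    show (Lp l).mapH a n (Li.mapH a n v) = h l
    rw [hv, map_sum, Finset.sum_eq_single l (fun j _ hj => by
      rw [hpθ, Pi.single_eq_of_ne (Ne.symm hj), zero_smul]) (fun hl => absurd (Finset.mem_univ l) hl),
      hpθ, Pi.single_eq_same, one_smul]

include hW hn in
/-- The top cohomology is spanned by the images of the top cohomology of the ring. -/
theorem span_theta [Module.Finite R M] (y : EM.H a n) :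
    y ∈ Submodule.span R {w | ∃ x h, w = theta hW IR EM a n x h} := by
  obtain ⟨κ, hκ, d, x, -, -, hgen, -⟩ := exists_present hW IR EM a hn
  obtain ⟨h, rfl⟩ := hgen y
  exact sum_mem fun j _ => Submodule.subset_span ⟨x j, h j, rfl⟩

end Noetherian

end Theta

end GrDualLib
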